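import Mathlib

/-!
# The rigidity lemma over a field

`rigid`: let `X` be universally closed, qcqs over a field `k` with `Γ(X, O) = k` and a rational point
`x₀`, `Y` integral and `f : X × Y ⟶ Z` (`Z` separated) collapsing the fibre over a point of `Y` at
the level of sets.  Then `f(x, y) = f(x₀, y)`.
-/

open CategoryTheory Limits AlgebraicGeometry MonoidalCategory CartesianMonoidalCategory
open TopologicalSpace (Opens)

universe u

namespace Groth.Agent.RigidProd

/-- Two maps to a separated object agreeing after a scheme-theoretically dominant map are equal. -/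
theorem ext_of_stdom {S : Scheme.{u}} {X' X Y : Over S} [IsSeparated Y.hom] (j : X' ⟶ X)
    [IsSchemeTheoreticallyDominant j.left] {f g : X ⟶ Y} (h : j ≫ f = j ≫ g) : f = g := by
  have hfac : (equalizer.lift j h).left ≫ (equalizer.ι f g).left = j.left := by
    rw [← Over.comp_left, equalizer.lift_ι]
  have hker : (equalizer.ι f g).left.ker = ⊥ :=
    le_bot_iff.mp ((Scheme.Hom.le_ker_comp _ _).trans (hfac.symm ▸ j.left.ker_eq_bot).le)
  have : IsIso (equalizer.ι f g).left := IsClosedImmersion.isIso_iff_ker_eq_bot.mpr hker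
  apply Over.OverMorphism.ext
  rw [← cancel_epi (equalizer.ι f g).left]
  exact congr($(equalizer.condition f g).left)

theorem isPullback_whiskerLeft {S : Scheme.{u}} (X : Over S) {T W : Over S} (j : T ⟶ W) :
    IsPullback (snd X T).left (X ◁ j).left j.left (snd X W).left := by
  have h₂ : IsPullback (snd X W).left (fst X W).left W.hom X.hom :=
    (IsPullback.of_hasPullback X.hom W.hom).flip
  have h₁ : IsPullback (snd X T).left (fst X T).left T.hom X.hom :=
    (IsPullback.of_hasPullback X.hom T.hom).flip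
  refine IsPullback.of_bot ?_ (by rw [← Over.comp_left, ← Over.comp_left, whiskerLeft_snd]) h₂
  rw [Over.w j, ← Over.comp_left, whiskerLeft_fst]
  exact h₁

variable {k : Type u} [Field k]

/-- The global functions of `X` are the constants. -/
def TrivialSections (X : Over (Spec (CommRingCat.of k))) : Prop :=
  Function.Bijective ((Scheme.ΓSpecIso (CommRingCat.of k)).inv ≫ X.hom.appTop).hom

instance (priority := 100) flat_over_field (X : Over (Spec (CommRingCat.of k))) : Flat X.hom :=
  inferInstance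

variable {X : Over (Spec (CommRingCat.of k))} [QuasiCompact X.hom] [QuasiSeparated X.hom]

theorem isIso_appTop_snd (hX : TrivialSections X) (T : Over (Spec (CommRingCat.of k)))
    [IsAffine T.left] : IsIso (snd X T).left.appTop := by
  have : IsIso X.hom.appTop := by
    have : IsIso ((Scheme.ΓSpecIso (CommRingCat.of k)).inv ≫ X.hom.appTop) :=
      (ConcreteCategory.isIso_iff_bijective _).mpr hX
    exact IsIso.of_isIso_comp_left (Scheme.ΓSpecIso (CommRingCat.of k)).inv _
  have : CompactSpace X.left := QuasiCompact.compactSpace_of_compactSpace X.hom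
  have : QuasiSeparatedSpace X.left := quasiSeparatedSpace_of_quasiSeparated X.hom
  have H : IsPullback (fst X T).left (snd X T).left X.hom T.hom :=
    IsPullback.of_hasPullback X.hom T.hom
  have := isIso_pushoutSection_of_isQuasiSeparated_of_flat_right H (US := ⊤) (UT := ⊤) (UX := ⊤)
    (by simp) (by simp) (UY := ⊤) (by simp) (isAffineOpen_top _) (isAffineOpen_top _)
    isCompact_univ (isQuasiSeparated_univ (α := X.left))
  have hpo := (isIso_pushoutSection_iff ..).mp this
  have e1 : ∀ {A B : Scheme.{u}} (g : A ⟶ B) (h : (⊤ : A.Opens) ≤ g ⁻¹ᵁ ⊤), g.appLE ⊤ ⊤ h = g.appTop :=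
    fun g _ => g.appLE_eq_app
  have h := hpo.isIso_inr_of_isIso (by rw [e1]; infer_instance)
  rwa [e1] at h

/-- Maps from `X × T` to an affine scheme, `T` affine, come from `T`. -/
theorem eq_of_affine (hX : TrivialSections X) {T : Over (Spec (CommRingCat.of k))} [IsAffine T.left]
    {U : Scheme.{u}} [IsAffine U] (x₀ : 𝟙_ (Over (Spec (CommRingCat.of k))) ⟶ X)
    (h : (X ⊗ T).left ⟶ U) :
    h = (snd X T).left ≫ (lift (toUnit T ≫ x₀) (𝟙 T)).left ≫ h := by
  have := isIso_appTop_snd hX T
  refine ext_of_isAffine ?_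
  have hs : (snd X T).left.appTop ≫ (lift (toUnit T ≫ x₀) (𝟙 T)).left.appTop = 𝟙 _ := by
    rw [← Scheme.Hom.comp_appTop, ← Over.comp_left, lift_snd]
    simp
  rw [Scheme.Hom.comp_appTop, Scheme.Hom.comp_appTop, Category.assoc,
    show (lift (toUnit T ≫ x₀) (𝟙 T)).left.appTop = inv (snd X T).left.appTop from
      (IsIso.inv_eq_of_hom_inv_id hs).symm, IsIso.inv_hom_id, Category.comp_id]

/-- Maps from `X × T`, `T` affine, into an affine open come from `T`. -/
theorem eq_of_range (hX : TrivialSections X) {T : Over (Spec (CommRingCat.of k))} [IsAffine T.left]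
    {Z : Over (Spec (CommRingCat.of k))} (x₀ : 𝟙_ (Over (Spec (CommRingCat.of k))) ⟶ X)
    (h : X ⊗ T ⟶ Z) {U : Z.left.Opens} (hU : IsAffineOpen U)
    (hh : Set.range h.left ⊆ (U : Set Z.left)) :
    h = snd X T ≫ lift (toUnit T ≫ x₀) (𝟙 T) ≫ h := by
  have : IsAffine (U : Scheme.{u}) := hU
  let h' : (X ⊗ T).left ⟶ (U : Scheme.{u}) := IsOpenImmersion.lift U.ι h.left (by simpa using hh)
  have hfac : h' ≫ U.ι = h.left := IsOpenImmersion.lift_fac ..
  apply Over.OverMorphism.ext
  rw [Over.comp_left, Over.comp_left, ← hfac]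
  conv_lhs => rw [eq_of_affine hX x₀ h']
  simp only [Category.assoc]

/-- The rigidity lemma. -/
theorem rigid [UniversallyClosed X.hom] (hX : TrivialSections X)
    (x₀ : 𝟙_ (Over (Spec (CommRingCat.of k))) ⟶ X)
    {Y Z : Over (Spec (CommRingCat.of k))} [IsIntegral Y.left] [IsSeparated Z.hom]
    (f : X ⊗ Y ⟶ Z) (y₀ : Y.left)
    (hy₀ : (f.left '' ((snd X Y).left ⁻¹' {y₀})).Subsingleton) :
    f = snd X Y ≫ lift (toUnit Y ≫ x₀) (𝟙 Y) ≫ f := by
  let s := lift (toUnit Y ≫ x₀) (𝟙 Y)
  have hs : (snd X Y).left (s.left y₀) = y₀ := by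
    rw [← Scheme.Hom.comp_apply, ← Over.comp_left, lift_snd]; rfl
  let z₀ := f.left (s.left y₀)
  obtain ⟨_, ⟨U, hU, rfl⟩, hzU, -⟩ :=
    Z.left.isBasis_affineOpens.exists_subset_of_mem_open (Set.mem_univ z₀) isOpen_univ
  have hsndUC : UniversallyClosed (snd X Y).left :=
    MorphismProperty.of_isPullback (P := @UniversallyClosed) (IsPullback.of_hasPullback X.hom Y.hom) ‹_›
  let bad : Set Y.left := (snd X Y).left '' (f.left ⁻¹' (U : Set Z.left))ᶜ
  have hbad : IsClosed bad :=
    (snd X Y).left.isClosedMap _ (U.isOpen.preimage f.left.continuous).isClosed_compl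
  have hy₀bad : y₀ ∉ bad := by
    rintro ⟨p, hp, hpy⟩
    exact hp (show f.left p ∈ (U : Set Z.left) from
      hy₀ ⟨p, hpy, rfl⟩ ⟨s.left y₀, hs, rfl⟩ ▸ hzU)
  apply Over.OverMorphism.ext
  refine Scheme.Cover.hom_ext (Scheme.Pullback.openCoverOfRight Y.left.affineCover X.hom Y.hom) _ _ fun i => ?_
  let W : Over (Spec (CommRingCat.of k)) := Over.mk (Y.left.affineCover.f i ≫ Y.hom)
  let wι : W ⟶ Y := Over.homMk (Y.left.affineCover.f i)
  have hcomp : (Scheme.Pullback.openCoverOfRight Y.left.affineCover X.hom Y.hom).f i = (X ◁ wι).left := by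
    refine pullback.hom_ext ?_ ?_
    · rw [Scheme.Pullback.openCoverOfRight_f]
      refine (pullback.lift_fst _ _ _).trans ?_
      rw [Category.comp_id]
      exact (congr($(whiskerLeft_fst X wι).left)).symm
    · rw [Scheme.Pullback.openCoverOfRight_f]
      refine (pullback.lift_snd _ _ _).trans ?_
      exact (congr($(whiskerLeft_snd X wι).left)).symm
  rw [hcomp]
  suffices X ◁ wι ≫ f = X ◁ wι ≫ snd X Y ≫ lift (toUnit Y ≫ x₀) (𝟙 Y) ≫ f from congr($(this).left)
  have : IsAffine W.left := inferInstanceAs (IsAffine (Y.left.affineCover.X i))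
  have : IsOpenImmersion wι.left := inferInstanceAs (IsOpenImmersion (Y.left.affineCover.f i))
  cases isEmpty_or_nonempty W.left
  · have : IsEmpty (X ⊗ W).left := Function.isEmpty (snd X W).left.base
    exact Over.OverMorphism.ext ((isInitialOfIsEmpty (X := (X ⊗ W).left)).hom_ext _ _)
  have : IsIntegral W.left := isIntegral_of_isOpenImmersion wι.left
  have hne : (wι.left ⁻¹' badᶜ).Nonempty := by
    obtain ⟨_, hb, w, rfl⟩ := (PreirreducibleSpace.isPreirreducible_univ
      (X := Y.left)) _ _ hbad.isOpen_compl wι.left.isOpenEmbedding.isOpen_range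
      ⟨y₀, trivial, hy₀bad⟩ ⟨_, trivial, ⟨Classical.arbitrary _, rfl⟩⟩ |>.imp fun _ h => h.2
    exact ⟨w, hb⟩
  obtain ⟨w, hw⟩ := hne
  obtain ⟨_, ⟨V, hV, rfl⟩, hwV, hVbad⟩ :=
    W.left.isBasis_affineOpens.exists_subset_of_mem_open hw (hbad.isOpen_compl.preimage wι.left.continuous)
  let T : Over (Spec (CommRingCat.of k)) := Over.mk (Scheme.Opens.ι V ≫ W.hom)
  let j : T ⟶ W := Over.homMk (Scheme.Opens.ι V)
  have : IsAffine T.left := hV
  have : IsAffineHom j.left := isAffineHom_of_isAffine j.left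
  have : IsDominant j.left := ⟨by
    rw [DenseRange, show Set.range j.left = (V : Set W.left) from Scheme.Opens.range_ι V]
    exact V.isOpen.dense ⟨w, hwV⟩⟩
  have : IsSchemeTheoreticallyDominant j.left := .of_isDominant _
  have : Flat (snd X W).left :=
    MorphismProperty.of_isPullback (P := @Flat) (IsPullback.of_hasPullback X.hom W.hom) inferInstance
  have : IsSchemeTheoreticallyDominant (X ◁ j).left :=
    .of_isPullback (isPullback_whiskerLeft X j)
  refine ext_of_stdom (X ◁ j) ?_
  have hrange : Set.range (X ◁ j ≫ X ◁ wι ≫ f).left ⊆ (U : Set Z.left) := by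
    rintro _ ⟨p, rfl⟩
    by_contra hp
    have hb : (snd X Y).left ((X ◁ j ≫ X ◁ wι).left p) ∈ bad := ⟨_, by simpa using hp, rfl⟩
    rw [← Scheme.Hom.comp_apply, ← Over.comp_left, Category.assoc, whiskerLeft_snd, whiskerLeft_snd_assoc] at hb
    exact hVbad (show ((snd X T).left ≫ j.left) p ∈ (V : Set W.left) by
      rw [Scheme.Hom.comp_apply]; exact ((snd X T).left p).2) (by simpa using hb)
  have key := eq_of_range hX x₀ (X ◁ j ≫ X ◁ wι ≫ f) hU hrange
  rw [key]
  simp only [← Category.assoc]
  congr 1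
  ext <;> simp

/-- A proper reduced connected scheme with a rational point has only constant functions. -/
theorem trivialSections_of_isIntegral (X : Over (Spec (CommRingCat.of k))) [UniversallyClosed X.hom]
    [LocallyOfFiniteType X.hom] [IsIntegral X.left] (x₀ : 𝟙_ (Over (Spec (CommRingCat.of k))) ⟶ X) :
    TrivialSections X := by
  let φ := (Scheme.ΓSpecIso (CommRingCat.of k)).inv ≫ X.hom.appTop
  let ψ := x₀.left.appTop ≫ (Scheme.ΓSpecIso (CommRingCat.of k)).hom
  have hψ : φ ≫ ψ = 𝟙 _ := by
    simp only [φ, ψ, Category.assoc]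
    rw [← Category.assoc X.hom.appTop, ← Scheme.Hom.comp_appTop, Over.w x₀]
    simp
  let := (isField_of_universallyClosed k X.hom).toField
  refine ⟨φ.hom.injective, fun a => ⟨ψ.hom a, ψ.hom.injective ?_⟩⟩
  exact congr($hψ (ψ.hom a))

end Groth.Agent.RigidProd
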