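import Mathlib
import Groth.Agent.RigidProd.Basic

/-! Constant functions on connected reduced universally closed schemes with a rational point. -/

open CategoryTheory Limits AlgebraicGeometry MonoidalCategory CartesianMonoidalCategory

universe u

namespace Groth.Agent.RigidProd

variable {k : Type u} [Field k]

theorem isIdempotentElem_eq_zero_or_one {X : Scheme.{u}} [IsReduced X] [PreconnectedSpace X]
    {e : Γ(X, ⊤)} (he : IsIdempotentElem e) : e = 0 ∨ e = 1 := by
  have hinf : X.basicOpen e ⊓ X.basicOpen (1 - e) = ⊥ := by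
    rw [← Scheme.basicOpen_mul, mul_sub, mul_one, he.eq, sub_self, Scheme.basicOpen_zero]
  have hsup : (X.basicOpen e : Set X) ∪ X.basicOpen (1 - e) = Set.univ := by
    refine Set.eq_univ_of_forall fun x => ?_
    by_contra h
    simp only [Set.mem_union, SetLike.mem_coe, Scheme.mem_basicOpen_top, not_or] at h
    rcases IsLocalRing.isUnit_or_isUnit_one_sub_self (X.presheaf.Γgerm x e) with hu | hu
    · exact h.1 hu
    · rw [map_sub, map_one] at h; exact h.2 hu
  have hclopen : IsClopen (X.basicOpen e : Set X) := by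
    refine ⟨?_, (X.basicOpen e).isOpen⟩
    rw [← isOpen_compl_iff]
    convert (X.basicOpen (1 - e)).isOpen using 1
    ext x
    refine ⟨fun hx => ?_, fun hx hx' => ?_⟩
    · exact (hsup.symm.subset (Set.mem_univ x)).resolve_left hx
    · have : x ∈ X.basicOpen e ⊓ X.basicOpen (1 - e) := ⟨hx', hx⟩
      rw [hinf] at this
      exact this
  rcases isClopen_iff.mp hclopen with h | h
  · exact Or.inl ((basicOpen_eq_bot_iff e).mp (TopologicalSpace.Opens.ext h))
  · refine Or.inr (sub_eq_zero.mp ((basicOpen_eq_bot_iff _).mp ?_)).symm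
    rw [← hinf, show X.basicOpen e = ⊤ from TopologicalSpace.Opens.ext h, top_inf_eq]

/-- A connected reduced universally closed scheme with a rational point has only constant functions. -/
theorem trivialSections_of_connected (X : Over (Spec (CommRingCat.of k))) [UniversallyClosed X.hom]
    [IsReduced X.left] [ConnectedSpace X.left] (x₀ : 𝟙_ (Over (Spec (CommRingCat.of k))) ⟶ X) :
    TrivialSections X := by
  let φ := (Scheme.ΓSpecIso (CommRingCat.of k)).inv ≫ X.hom.appTop
  let ψ := x₀.left.appTop ≫ (Scheme.ΓSpecIso (CommRingCat.of k)).hom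
  have hψ : φ ≫ ψ = 𝟙 _ := by
    simp only [φ, ψ, Category.assoc]
    rw [← Category.assoc X.hom.appTop, ← Scheme.Hom.comp_appTop, Over.w x₀]
    simp
  have hint : φ.hom.IsIntegral :=
    RingHom.isIntegral_respectsIso.2 (e := (Scheme.ΓSpecIso _).symm.commRingCatIsoToRingEquiv) _
      (isIntegral_appTop_of_universallyClosed X.hom)
  let : Algebra k Γ(X.left, ⊤) := φ.hom.toAlgebra
  have : Nonempty ((⊤ : X.left.Opens) : Set X.left) := ⟨⟨x₀.left (IsLocalRing.closedPoint k), trivial⟩⟩
  have : Nontrivial Γ(X.left, ⊤) := inferInstance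
  refine ⟨φ.hom.injective, fun a => ⟨ψ.hom a, sub_eq_zero.mp ?_⟩⟩
  set b := φ.hom (ψ.hom a) - a with hb
  have hψb : ψ.hom b = 0 := by
    rw [hb, map_sub, sub_eq_zero]
    exact congr($hψ (ψ.hom a))
  let S := Algebra.adjoin k ({b} : Set Γ(X.left, ⊤))
  have : Module.Finite k S :=
    Module.Finite.iff_fg.mpr (IsIntegral.fg_adjoin_singleton (hint b))
  have : IsArtinianRing S := IsArtinianRing.of_finite k S
  let bS : S := ⟨b, Algebra.self_mem_adjoin_singleton k b⟩
  obtain ⟨n, x, hx⟩ := IsArtinian.exists_pow_succ_smul_dvd bS (1 : S)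
  have hx' : b ^ (n + 1) * (x : Γ(X.left, ⊤)) = b ^ n := by
    simpa [smul_eq_mul, bS] using congrArg Subtype.val hx
  have hpow : ∀ j, b ^ n = b ^ (n + j) * (x : Γ(X.left, ⊤)) ^ j := by
    intro j
    induction j with
    | zero => simp
    | succ j ih => calc b ^ n = b ^ (n + j) * (x : Γ(X.left, ⊤)) ^ j := ih
        _ = b ^ n * (b ^ j * (x : Γ(X.left, ⊤)) ^ j) := by ring
        _ = b ^ (n + 1) * x * (b ^ j * (x : Γ(X.left, ⊤)) ^ j) := by rw [hx']
        _ = b ^ (n + (j + 1)) * (x : Γ(X.left, ⊤)) ^ (j + 1) := by ring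
  have he : IsIdempotentElem (b ^ n * (x : Γ(X.left, ⊤)) ^ n) := by
    change b ^ n * (x : Γ(X.left, ⊤)) ^ n * (b ^ n * (x : Γ(X.left, ⊤)) ^ n) = b ^ n * (x : Γ(X.left, ⊤)) ^ n
    conv_rhs => rw [hpow n]
    ring
  rcases isIdempotentElem_eq_zero_or_one he with h0 | h1
  · refine IsReduced.eq_zero b ⟨n, ?_⟩
    calc b ^ n = b ^ n * (b ^ n * (x : Γ(X.left, ⊤)) ^ n) := by rw [← mul_assoc, ← pow_add, ← hpow n]
      _ = 0 := by rw [h0, mul_zero]
  · exfalso
    have hu : IsUnit b := by
      rcases n with _ | n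
      · exact IsUnit.of_mul_eq_one (x : Γ(X.left, ⊤)) (by simpa using hx')
      · exact (isUnit_pow_iff (Nat.succ_ne_zero n)).mp (IsUnit.of_mul_eq_one _ h1)
    have := hu.map ψ.hom
    rw [hψb] at this
    exact not_isUnit_zero this

end Groth.Agent.RigidProd
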