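import Mathlib
import Groth.Agent.RigidProd.Point
import Groth.Agent.GrpSchField.ConnComp

/-! Connected geometrically reduced group schemes over a field are geometrically integral, and
decomposition of maps from products to proper group varieties. -/

open CategoryTheory Limits AlgebraicGeometry MonoidalCategory CartesianMonoidalCategory MonObj

universe u

namespace Groth.Agent.RigidProd

open GrpSchField in
theorem geometricallyIntegral_of_connected {k : Type u} [Field k]
    (G : Over (Spec (CommRingCat.of k))) [GrpObj G] [ConnectedSpace G.left] [GeometricallyReduced G.hom] :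
    GeometricallyIntegral G.hom := by
  have : GeometricallyIrreducible G.hom := by
    refine ⟨geometrically_iff_of_isClosedUnderIsomorphisms.mpr fun E _ t => ?_⟩
    have h := isIrreducible_preimage_unitComp (G := G) t
    rw [← connectedComponent_eq_unitComp, PreconnectedSpace.connectedComponent_eq_univ,
      Set.preimage_univ] at h
    exact irreducibleSpace_def _ |>.2 h
  exact GeometricallyIntegral.of_geometricallyReduced_of_geometricallyIrreducible _

variable {k : Type u} [Field k]

/-- A map from a product to a proper group variety is the product of its restrictions. -/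
theorem eq_mul_of_proper {X Y C : Over (Spec (CommRingCat.of k))}
    [QuasiCompact X.hom] [QuasiSeparated X.hom] [UniversallyClosed X.hom] (hX : TrivialSections X)
    [IsIntegral Y.left] [GrpObj C] [IsSeparated C.hom]
    (x₀ : 𝟙_ (Over (Spec (CommRingCat.of k))) ⟶ X) (y₀ : 𝟙_ (Over (Spec (CommRingCat.of k))) ⟶ Y)
    (g : X ⊗ Y ⟶ C) (hg : lift x₀ y₀ ≫ g = η[C]) :
    g = (fst X Y ≫ lift (𝟙 X) (toUnit X ≫ y₀) ≫ g) * (snd X Y ≫ lift (toUnit Y ≫ x₀) (𝟙 Y) ≫ g) := by
  let a := fst X Y ≫ lift (𝟙 X) (toUnit X ≫ y₀) ≫ g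
  let b := snd X Y ≫ lift (toUnit Y ≫ x₀) (𝟙 Y) ≫ g
  have hg' : ∀ (T : Over (Spec (CommRingCat.of k))) (t : T ⟶ 𝟙_ _),
      lift (t ≫ x₀) (t ≫ y₀) ≫ g = (1 : T ⟶ C) := fun T t => by
    rw [← comp_lift, Category.assoc, hg, toUnit_unique t (toUnit T)]
    rfl
  have key := rigid_point hX x₀ (a⁻¹ * g * b⁻¹) y₀ η[C] ?_
  · have h1 : lift (toUnit Y ≫ x₀) (𝟙 Y) ≫ (a⁻¹ * g * b⁻¹) = 1 := by
      simp only [comp_mul, GrpObj.comp_inv, a, b, lift_fst_assoc, lift_snd_assoc, Category.id_comp]
      rw [← Category.assoc (toUnit Y ≫ x₀), comp_lift]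
      simp [hg']
    rw [h1, comp_one, mul_inv_eq_one, inv_mul_eq_iff_eq_mul] at key
    exact key
  · simp only [comp_mul, GrpObj.comp_inv, a, b, lift_fst_assoc, lift_snd_assoc, Category.id_comp]
    rw [← Category.assoc (toUnit X ≫ y₀), comp_lift]
    simp [hg', one_eq_one]

end Groth.Agent.RigidProd
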